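import Mathlib

/-!
# Profinite algebras over a field: points of `Spec (A ⊗ C)` (helper8)

`A` a `k`-algebra which is a directed union of finite products of copies of `k` (`IsProf`).  For every
`k`-algebra `C` the map `Spec (A ⊗ C) → Spec A × Spec C` is a bijective open map.
-/

set_option autoImplicit false
universe u
open TensorProduct

namespace Groth.Agent.H8.ProfAlg

variable (k : Type u) [Field k] (A : Type u) [CommRing A] [Algebra k A]

/-- every finite subset lies in a subalgebra isomorphic to a finite power of `k`. -/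
def IsProf : Prop :=
  ∀ s : Finset A, ∃ (B : Subalgebra k A) (n : ℕ), (↑s : Set A) ⊆ (B : Set A) ∧
    Nonempty (B ≃ₐ[k] (Fin n → k))

variable {k A}

theorem exists_scalar_sub_mem (hA : IsProf k A) (p : Ideal A) [hp : p.IsPrime] (a : A) :
    ∃ c : k, a - algebraMap k A c ∈ p := by
  obtain ⟨B, n, hs, ⟨e⟩⟩ := hA {a}
  have haB : a ∈ B := hs (by simp)
  obtain ⟨b, hb⟩ : ∃ b : B, (b : A) = a := ⟨⟨a, haB⟩, rfl⟩
  have h1 : ∏ j : Fin n, (b - algebraMap k B (e b j)) = 0 := by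
    apply e.injective
    rw [map_zero, map_prod]
    funext i
    rw [Finset.prod_apply, Pi.zero_apply]
    apply Finset.prod_eq_zero (Finset.mem_univ i)
    rw [map_sub, AlgEquiv.commutes, Pi.sub_apply, Pi.algebraMap_apply, Algebra.algebraMap_self,
      RingHom.id_apply, sub_self]
  have h2 : ∏ j : Fin n, (a - algebraMap k A (e b j)) = 0 := by
    have h3 := congrArg (B.val : B → A) h1
    rw [map_prod, map_zero] at h3
    rw [← h3]
    refine Finset.prod_congr rfl fun j _ => ?_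
    rw [map_sub, AlgHom.commutes, Subalgebra.coe_val, hb]
  have h4 : ∏ j : Fin n, (a - algebraMap k A (e b j)) ∈ p := by
    rw [h2]
    exact zero_mem p
  obtain ⟨j, -, hj⟩ := (hp.prod_mem_iff).mp h4
  exact ⟨e b j, hj⟩

/-- decomposition of a tensor along orthogonal idempotents of `A`. -/
theorem exists_idem_decomp (hA : IsProf k A) {C : Type u} [CommRing C] [Algebra k C]
    (t : A ⊗[k] C) :
    ∃ (n : ℕ) (ε : Fin n → A) (d : Fin n → C), (∀ i j, i ≠ j → ε i * ε j = 0) ∧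
      ∑ j, ε j = 1 ∧ t = ∑ j, ε j ⊗ₜ[k] d j := by
  classical
  obtain ⟨S, hS⟩ := TensorProduct.exists_finset t
  obtain ⟨B, n, hs, ⟨e⟩⟩ := hA (S.image Prod.fst)
  obtain ⟨ε, hε⟩ : ∃ ε : Fin n → B, ∀ j, ε j = e.symm (Pi.single j 1) := ⟨_, fun _ => rfl⟩
  have horth : ∀ i j, i ≠ j → ε i * ε j = 0 := by
    intro i j hij
    rw [hε, hε, ← map_mul]
    have : (Pi.single i (1 : k) : Fin n → k) * Pi.single j 1 = 0 := by
      funext l
      by_cases hl : l = i
      · subst hl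
        simp [Pi.single_eq_of_ne hij]
      · simp [Pi.single_eq_of_ne hl]
    rw [this, map_zero]
  have hsum : ∑ j, ε j = 1 := by
    simp only [hε]
    rw [← map_sum, Finset.univ_sum_single]
    exact map_one e.symm
  have hexp : ∀ b : B, b = ∑ j, (e b j) • ε j := by
    intro b
    apply e.injective
    rw [map_sum]
    simp only [map_smul, hε, AlgEquiv.apply_symm_apply]
    funext l
    rw [Finset.sum_apply]
    simp [Pi.single_apply]
  obtain ⟨coef, hcoef⟩ : ∃ coef : A → Fin n → k,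
      ∀ a (h : a ∈ B), coef a = e ⟨a, h⟩ := by
    refine ⟨fun a => if h : a ∈ B then e ⟨a, h⟩ else 0, fun a h => ?_⟩
    simp [h]
  have hexpA : ∀ p ∈ S, (p.1 : A) = ∑ j, (coef p.1 j) • (ε j : A) := by
    intro p hp
    have hpB : p.1 ∈ B := hs (by
      rw [Finset.coe_image]
      exact ⟨p, hp, rfl⟩)
    have h1 := congrArg (B.val : B → A) (hexp ⟨p.1, hpB⟩)
    rw [map_sum] at h1
    simp only [map_smul, Subalgebra.coe_val] at h1
    rw [hcoef p.1 hpB]
    exact h1
  refine ⟨n, fun j => (ε j : A), fun j => ∑ p ∈ S, (coef p.1 j) • p.2, ?_, ?_, ?_⟩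
  · intro i j hij
    have := congrArg (B.val : B → A) (horth i j hij)
    rw [map_mul, map_zero] at this
    exact this
  · have := congrArg (B.val : B → A) hsum
    rw [map_sum, map_one] at this
    exact this
  · rw [hS]
    calc ∑ p ∈ S, p.1 ⊗ₜ[k] p.2
        = ∑ p ∈ S, ∑ j, (ε j : A) ⊗ₜ[k] ((coef p.1 j) • p.2) := by
          refine Finset.sum_congr rfl fun p hp => ?_
          conv_lhs => rw [hexpA p hp]
          rw [TensorProduct.sum_tmul]
          refine Finset.sum_congr rfl fun j _ => ?_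
          rw [TensorProduct.smul_tmul]
      _ = ∑ j, ∑ p ∈ S, (ε j : A) ⊗ₜ[k] ((coef p.1 j) • p.2) := Finset.sum_comm
      _ = ∑ j, (ε j : A) ⊗ₜ[k] ∑ p ∈ S, (coef p.1 j) • p.2 := by
          refine Finset.sum_congr rfl fun j _ => ?_
          rw [TensorProduct.tmul_sum]

section Points

variable {C : Type u} [CommRing C] [Algebra k C]

/-- the map `Spec (A ⊗ C) → Spec A × Spec C`. -/
noncomputable def phi (Q : PrimeSpectrum (A ⊗[k] C)) : PrimeSpectrum A × PrimeSpectrum C :=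
  (PrimeSpectrum.comap (Algebra.TensorProduct.includeLeft : A →ₐ[k] A ⊗[k] C).toRingHom Q,
    PrimeSpectrum.comap (Algebra.TensorProduct.includeRight : C →ₐ[k] A ⊗[k] C).toRingHom Q)

theorem mem_phi_fst (Q : PrimeSpectrum (A ⊗[k] C)) (a : A) :
    a ∈ (phi Q).1.asIdeal ↔ a ⊗ₜ[k] (1 : C) ∈ Q.asIdeal := Iff.rfl

theorem mem_phi_snd (Q : PrimeSpectrum (A ⊗[k] C)) (c : C) :
    c ∈ (phi Q).2.asIdeal ↔ (1 : A) ⊗ₜ[k] c ∈ Q.asIdeal := Iff.rfl

theorem exists_reduce (hA : IsProf k A) (p : PrimeSpectrum A) (t : A ⊗[k] C) :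
    ∃ c : C, ∀ Q : PrimeSpectrum (A ⊗[k] C), (phi Q).1 = p →
      t - (1 : A) ⊗ₜ[k] c ∈ Q.asIdeal := by
  induction t using TensorProduct.induction_on with
  | zero => exact ⟨0, fun Q _ => by simp⟩
  | tmul a c₀ =>
    obtain ⟨l, hl⟩ := exists_scalar_sub_mem hA p.asIdeal a
    refine ⟨l • c₀, fun Q hQ => ?_⟩
    have h1 : (a - algebraMap k A l) ⊗ₜ[k] (1 : C) ∈ Q.asIdeal := by
      rw [← mem_phi_fst, hQ]
      exact hl
    have h2 : a ⊗ₜ[k] c₀ - (1 : A) ⊗ₜ[k] (l • c₀) =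
        ((a - algebraMap k A l) ⊗ₜ[k] (1 : C)) * ((1 : A) ⊗ₜ[k] c₀) := by
      rw [Algebra.TensorProduct.tmul_mul_tmul, mul_one, one_mul, TensorProduct.sub_tmul,
        Algebra.algebraMap_eq_smul_one, TensorProduct.smul_tmul]
    rw [h2]
    exact Ideal.mul_mem_right _ _ h1
  | add t t' ht ht' =>
    obtain ⟨c, hc⟩ := ht
    obtain ⟨c', hc'⟩ := ht'
    refine ⟨c + c', fun Q hQ => ?_⟩
    have : t + t' - (1 : A) ⊗ₜ[k] (c + c') = (t - 1 ⊗ₜ[k] c) + (t' - 1 ⊗ₜ[k] c') := by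
      rw [TensorProduct.tmul_add]
      abel
    rw [this]
    exact Ideal.add_mem _ (hc Q hQ) (hc' Q hQ)

theorem phi_injective (hA : IsProf k A) : Function.Injective (phi (k := k) (A := A) (C := C)) := by
  intro Q Q' h
  have key : ∀ Q Q' : PrimeSpectrum (A ⊗[k] C), phi Q = phi Q' →
      ∀ t, t ∈ Q.asIdeal → t ∈ Q'.asIdeal := by
    intro Q Q' h t ht
    obtain ⟨c, hc⟩ := exists_reduce hA (phi Q).1 t
    have h1 := hc Q rfl
    have h2 := hc Q' (congrArg Prod.fst h).symm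
    have h3 : (1 : A) ⊗ₜ[k] c ∈ Q.asIdeal := by
      have := Ideal.sub_mem _ ht h1
      rwa [sub_sub_cancel] at this
    have h4 : (1 : A) ⊗ₜ[k] c ∈ Q'.asIdeal := by
      rw [← mem_phi_snd, ← h, mem_phi_snd]
      exact h3
    have := Ideal.add_mem _ h2 h4
    rwa [sub_add_cancel] at this
  apply PrimeSpectrum.ext
  apply le_antisymm
  · exact fun t ht => key Q Q' h t ht
  · exact fun t ht => key Q' Q h.symm t ht

theorem phi_surjective (hA : IsProf k A) :
    Function.Surjective (phi (k := k) (A := A) (C := C)) := by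
  rintro ⟨p, q⟩
  have hbij : Function.Bijective (Algebra.ofId k (A ⧸ p.asIdeal)) := by
    refine ⟨(algebraMap k (A ⧸ p.asIdeal)).injective, fun y => ?_⟩
    obtain ⟨a, rfl⟩ := Ideal.Quotient.mk_surjective y
    obtain ⟨c, hc⟩ := exists_scalar_sub_mem hA p.asIdeal a
    refine ⟨c, ?_⟩
    have := Ideal.Quotient.eq.mpr hc
    exact this.symm
  obtain ⟨χ, hχ⟩ : ∃ χ : A →ₐ[k] k, ∀ a, χ a = 0 ↔ a ∈ p.asIdeal := by
    refine ⟨((AlgEquiv.ofBijective (Algebra.ofId k (A ⧸ p.asIdeal)) hbij).symm :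
      (A ⧸ p.asIdeal) →ₐ[k] k).comp (Ideal.Quotient.mkₐ k p.asIdeal), fun a => ?_⟩
    rw [AlgHom.comp_apply]
    show (AlgEquiv.ofBijective (Algebra.ofId k (A ⧸ p.asIdeal)) hbij).symm
      (Ideal.Quotient.mkₐ k p.asIdeal a) = 0 ↔ _
    rw [map_eq_zero_iff _ (AlgEquiv.injective _), Ideal.Quotient.mkₐ_eq_mk,
      Ideal.Quotient.eq_zero_iff_mem]
  obtain ⟨θ, hθ⟩ : ∃ θ : A ⊗[k] C →ₐ[k] C ⧸ q.asIdeal, ∀ a c,
      θ (a ⊗ₜ[k] c) = algebraMap k (C ⧸ q.asIdeal) (χ a) * Ideal.Quotient.mk q.asIdeal c :=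
    ⟨Algebra.TensorProduct.lift ((Algebra.ofId k (C ⧸ q.asIdeal)).comp χ)
      (Ideal.Quotient.mkₐ k q.asIdeal) (fun _ _ => Commute.all _ _), fun a c => by
        rw [Algebra.TensorProduct.lift_tmul]
        rfl⟩
  refine ⟨⟨RingHom.ker θ.toRingHom, RingHom.ker_isPrime _⟩, ?_⟩
  apply Prod.ext
  · apply PrimeSpectrum.ext
    ext a
    rw [mem_phi_fst]
    show θ (a ⊗ₜ[k] (1 : C)) = 0 ↔ a ∈ p.asIdeal
    rw [hθ, map_one, mul_one, ← hχ, map_eq_zero_iff _ (algebraMap k (C ⧸ q.asIdeal)).injective]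
  · apply PrimeSpectrum.ext
    ext c
    rw [mem_phi_snd]
    show θ ((1 : A) ⊗ₜ[k] c) = 0 ↔ c ∈ q.asIdeal
    rw [hθ, map_one, map_one, one_mul, Ideal.Quotient.eq_zero_iff_mem]

theorem phi_isOpenMap (hA : IsProf k A) : IsOpenMap (phi (k := k) (A := A) (C := C)) := by
  rw [PrimeSpectrum.isTopologicalBasis_basic_opens.isOpenMap_iff]
  rintro _ ⟨t, rfl⟩
  obtain ⟨n, ε, d, horth, hsum, ht⟩ := exists_idem_decomp hA t
  have himg : phi '' ((PrimeSpectrum.basicOpen t : Set (PrimeSpectrum (A ⊗[k] C)))) =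
      ⋃ j : Fin n, (PrimeSpectrum.basicOpen (ε j) : Set (PrimeSpectrum A)) ×ˢ
        (PrimeSpectrum.basicOpen (d j) : Set (PrimeSpectrum C)) := by
    -- the reduction of `t` modulo a prime
    have hred : ∀ (Q : PrimeSpectrum (A ⊗[k] C)) (j : Fin n), ε j ∉ (phi Q).1.asIdeal →
        (t ∈ Q.asIdeal ↔ d j ∈ (phi Q).2.asIdeal) := by
      intro Q j hj
      have hother : ∀ i, i ≠ j → ε i ⊗ₜ[k] d i ∈ Q.asIdeal := by
        intro i hij
        have h1 : ε i ∈ (phi Q).1.asIdeal := by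
          have h2 : ε i * ε j ∈ (phi Q).1.asIdeal := by
            rw [horth i j hij]
            exact zero_mem _
          exact ((phi Q).1.isPrime.mem_or_mem h2).resolve_right hj
        have h3 : ε i ⊗ₜ[k] d i = (ε i ⊗ₜ[k] (1 : C)) * ((1 : A) ⊗ₜ[k] d i) := by
          rw [Algebra.TensorProduct.tmul_mul_tmul, mul_one, one_mul]
        rw [h3]
        exact Ideal.mul_mem_right _ _ ((mem_phi_fst Q _).mp h1)
      have hsplit : t = ε j ⊗ₜ[k] d j + ∑ i ∈ Finset.univ.erase j, ε i ⊗ₜ[k] d i := by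
        rw [ht]
        exact (Finset.add_sum_erase Finset.univ (fun i => ε i ⊗ₜ[k] d i)
          (Finset.mem_univ j)).symm
      have hrest : ∑ i ∈ Finset.univ.erase j, ε i ⊗ₜ[k] d i ∈ Q.asIdeal :=
        Ideal.sum_mem _ fun i hi => hother i (Finset.ne_of_mem_erase hi)
      have h5 : ε j ⊗ₜ[k] d j = (ε j ⊗ₜ[k] (1 : C)) * ((1 : A) ⊗ₜ[k] d j) := by
        rw [Algebra.TensorProduct.tmul_mul_tmul, mul_one, one_mul]
      constructor
      · intro htQ
        have h6 : ε j ⊗ₜ[k] d j ∈ Q.asIdeal := by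
          have := Ideal.sub_mem _ htQ hrest
          rwa [hsplit, add_sub_cancel_right] at this
        rw [h5] at h6
        rcases Q.isPrime.mem_or_mem h6 with h7 | h7
        · exact absurd ((mem_phi_fst Q _).mpr h7) hj
        · exact (mem_phi_snd Q _).mpr h7
      · intro hd
        rw [hsplit]
        refine Ideal.add_mem _ ?_ hrest
        rw [h5]
        exact Ideal.mul_mem_left _ _ ((mem_phi_snd Q _).mp hd)
    have hexj : ∀ Q : PrimeSpectrum (A ⊗[k] C), ∃ j, ε j ∉ (phi Q).1.asIdeal := by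
      intro Q
      by_contra hcon
      push_neg at hcon
      have : (1 : A) ∈ (phi Q).1.asIdeal := by
        rw [← hsum]
        exact Ideal.sum_mem _ fun j _ => hcon j
      exact (phi Q).1.isPrime.ne_top ((Ideal.eq_top_iff_one _).mpr this)
    ext ⟨p, q⟩
    simp only [Set.mem_image, Set.mem_iUnion, Set.mem_prod, SetLike.mem_coe,
      PrimeSpectrum.mem_basicOpen]
    constructor
    · rintro ⟨Q, hQ, hpq⟩
      obtain ⟨j, hj⟩ := hexj Q
      have hp1 : (phi Q).1 = p := congrArg Prod.fst hpq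
      have hq1 : (phi Q).2 = q := congrArg Prod.snd hpq
      refine ⟨j, ?_, ?_⟩
      · rw [← hp1]
        exact hj
      · rw [← hq1]
        exact fun hd => hQ ((hred Q j hj).mpr hd)
    · rintro ⟨j, hj, hdj⟩
      obtain ⟨Q, hQ⟩ := phi_surjective (k := k) (A := A) (C := C) hA (p, q)
      refine ⟨Q, ?_, hQ⟩
      intro htQ
      have hj' : ε j ∉ (phi Q).1.asIdeal := by rw [hQ]; exact hj
      have := (hred Q j hj').mp htQ
      rw [hQ] at this
      exact hdj this
  rw [himg]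
  exact isOpen_iUnion fun j => (PrimeSpectrum.basicOpen (ε j)).isOpen.prod
    (PrimeSpectrum.basicOpen (d j)).isOpen

end Points

end Groth.Agent.H8.ProfAlg
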