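import Groth.Agent.Lib.Helper8.ProfAlg.Alg

/-!
# `|Spec A ×ₖ X| = |Spec A| × |X|` for a profinite `k`-algebra `A` (helper8)
-/

set_option autoImplicit false
universe u
open CategoryTheory CategoryTheory.Limits AlgebraicGeometry TensorProduct

namespace Groth.Agent.H8.ProfAlg

variable {k : Type u} [Field k] {A : Type u} [CommRing A] [Algebra k A]

section Chart

variable {X : Scheme.{u}} (f : X ⟶ Spec (CommRingCat.of k)) {R : Type u} [CommRing R] [Algebra k R]
  (jj : Spec (CommRingCat.of R) ⟶ X)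
  (hjj : jj ≫ f = Spec.map (CommRingCat.ofHom (algebraMap k R)))

include hjj in
theorem chart_comm :
    Spec.map (CommRingCat.ofHom
        (Algebra.TensorProduct.includeLeftRingHom : A →+* A ⊗[k] R)) ≫
        Spec.map (CommRingCat.ofHom (algebraMap k A)) =
      (Spec.map (CommRingCat.ofHom
        (Algebra.TensorProduct.includeRight : R →ₐ[k] A ⊗[k] R).toRingHom) ≫ jj) ≫ f := by
  rw [Category.assoc, hjj, ← Spec.map_comp, ← Spec.map_comp]
  congr 1
  exact (CommRingCat.isPushout_tensorProduct k A R).w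

/-- the chart `Spec (A ⊗ R) ⟶ Spec A ×ₖ X`. -/
noncomputable def chart :
    Spec (CommRingCat.of (A ⊗[k] R)) ⟶ pullback (Spec.map (CommRingCat.ofHom (algebraMap k A))) f :=
  pullback.lift
    (Spec.map (CommRingCat.ofHom (Algebra.TensorProduct.includeLeftRingHom : A →+* A ⊗[k] R)))
    (Spec.map (CommRingCat.ofHom
      (Algebra.TensorProduct.includeRight : R →ₐ[k] A ⊗[k] R).toRingHom) ≫ jj)
    (chart_comm f jj hjj)

theorem chart_fst :
    chart (A := A) f jj hjj ≫ pullback.fst (Spec.map (CommRingCat.ofHom (algebraMap k A))) f =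
      Spec.map (CommRingCat.ofHom
        (Algebra.TensorProduct.includeLeftRingHom : A →+* A ⊗[k] R)) :=
  pullback.lift_fst _ _ _

theorem chart_snd :
    chart (A := A) f jj hjj ≫ pullback.snd (Spec.map (CommRingCat.ofHom (algebraMap k A))) f =
      Spec.map (CommRingCat.ofHom
        (Algebra.TensorProduct.includeRight : R →ₐ[k] A ⊗[k] R).toRingHom) ≫ jj :=
  pullback.lift_snd _ _ _

theorem chart_isPullback :
    IsPullback (chart (A := A) f jj hjj)
      (Spec.map (CommRingCat.ofHom
        (Algebra.TensorProduct.includeRight : R →ₐ[k] A ⊗[k] R).toRingHom))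
      (pullback.snd (Spec.map (CommRingCat.ofHom (algebraMap k A))) f) jj := by
  refine IsPullback.of_right (h₁₂ := pullback.fst (Spec.map (CommRingCat.ofHom (algebraMap k A))) f)
    (h₂₂ := f) (v₁₃ := Spec.map (CommRingCat.ofHom (algebraMap k A))) ?_ (chart_snd f jj hjj)
    (IsPullback.of_hasPullback _ f)
  rw [chart_fst, hjj]
  exact isPullback_SpecMap_of_isPushout _ _ _ _ (CommRingCat.isPushout_tensorProduct k A R)

theorem chart_apply (w : ↥(Spec (CommRingCat.of (A ⊗[k] R)))) :
    ((pullback.fst (Spec.map (CommRingCat.ofHom (algebraMap k A))) f) (chart (A := A) f jj hjj w),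
      (pullback.snd (Spec.map (CommRingCat.ofHom (algebraMap k A))) f)
        (chart (A := A) f jj hjj w)) =
      Prod.map id jj (phi (k := k) (A := A) (C := R) w) := by
  have h1 : (pullback.fst (Spec.map (CommRingCat.ofHom (algebraMap k A))) f)
      (chart (A := A) f jj hjj w) =
      (Spec.map (CommRingCat.ofHom
        (Algebra.TensorProduct.includeLeftRingHom : A →+* A ⊗[k] R))) w := by
    rw [← Scheme.Hom.comp_apply, chart_fst]
  have h2 : (pullback.snd (Spec.map (CommRingCat.ofHom (algebraMap k A))) f)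
      (chart (A := A) f jj hjj w) =
      jj ((Spec.map (CommRingCat.ofHom
        (Algebra.TensorProduct.includeRight : R →ₐ[k] A ⊗[k] R).toRingHom)) w) := by
    rw [← Scheme.Hom.comp_apply, chart_snd, Scheme.Hom.comp_apply]
  exact Prod.ext h1 h2

theorem chart_surj (z : ↥(pullback (Spec.map (CommRingCat.ofHom (algebraMap k A))) f))
    (y : ↥(Spec (CommRingCat.of R)))
    (h : jj y = (pullback.snd (Spec.map (CommRingCat.ofHom (algebraMap k A))) f) z) :
    ∃ w, chart (A := A) f jj hjj w = z := by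
  obtain ⟨w, hw, -⟩ := Scheme.exists_preimage_of_isPullback (chart_isPullback (A := A) f jj hjj)
    z y h.symm
  exact ⟨w, hw⟩

end Chart

theorem main (hA : IsProf k A) (X : Scheme.{u}) (f : X ⟶ Spec (CommRingCat.of k)) :
    IsHomeomorph (fun p : ↑(pullback (Spec.map (CommRingCat.ofHom (algebraMap k A))) f) =>
      (pullback.fst (Spec.map (CommRingCat.ofHom (algebraMap k A))) f p,
        pullback.snd (Spec.map (CommRingCat.ofHom (algebraMap k A))) f p)) := by
  obtain ⟨𝒰, -⟩ : ∃ 𝒰 : X.AffineOpenCover, 𝒰 = X.affineOpenCover := ⟨_, rfl⟩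
  letI iT : ∀ i : 𝒰.I₀, Algebra k (𝒰.X i) := fun i =>
    RingHom.toAlgebra (Spec.preimage (𝒰.f i ≫ f)).hom
  have hjj : ∀ i : 𝒰.I₀, 𝒰.f i ≫ f = Spec.map (CommRingCat.ofHom (algebraMap k (𝒰.X i))) := by
    intro i
    show _ = Spec.map (CommRingCat.ofHom (Spec.preimage (𝒰.f i ≫ f)).hom)
    rw [CommRingCat.ofHom_hom, Spec.map_preimage]
  -- every point lies in a chart
  have hcov : ∀ z : ↑(pullback (Spec.map (CommRingCat.ofHom (algebraMap k A))) f),
      ∀ i : 𝒰.I₀, ∀ y : ↥(Spec (𝒰.X i)),
        (𝒰.f i) y = (pullback.snd (Spec.map (CommRingCat.ofHom (algebraMap k A))) f) z →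
        ∃ w, chart (A := A) f (𝒰.f i) (hjj i) w = z :=
    fun z i y h => chart_surj f (𝒰.f i) (hjj i) z y h
  refine ⟨?_, ?_, ?_, ?_⟩
  · exact (pullback.fst (Spec.map (CommRingCat.ofHom (algebraMap k A))) f).continuous.prodMk
      (pullback.snd (Spec.map (CommRingCat.ofHom (algebraMap k A))) f).continuous
  · intro V hV
    have himg : (fun p : ↑(pullback (Spec.map (CommRingCat.ofHom (algebraMap k A))) f) =>
        (pullback.fst (Spec.map (CommRingCat.ofHom (algebraMap k A))) f p,
          pullback.snd (Spec.map (CommRingCat.ofHom (algebraMap k A))) f p)) '' V =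
        ⋃ i : 𝒰.I₀, (Prod.map id (𝒰.f i)) ''
          (phi (k := k) (A := A) (C := 𝒰.X i) ''
            ((chart (A := A) f (𝒰.f i) (hjj i)) ⁻¹' V)) := by
      apply Set.Subset.antisymm
      · rintro _ ⟨z, hz, rfl⟩
        obtain ⟨y, hy⟩ := 𝒰.covers
          ((pullback.snd (Spec.map (CommRingCat.ofHom (algebraMap k A))) f) z)
        obtain ⟨w, hw⟩ := hcov z _ y hy
        refine Set.mem_iUnion.mpr ⟨_, phi (k := k) (A := A) w, ⟨w, ?_, rfl⟩, ?_⟩
        · show chart (A := A) f (𝒰.f _) (hjj _) w ∈ V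
          rw [hw]
          exact hz
        · rw [← chart_apply f (𝒰.f _) (hjj _) w, hw]
      · intro pq hpq
        obtain ⟨i, hi⟩ := Set.mem_iUnion.mp hpq
        obtain ⟨_, ⟨w, hw, rfl⟩, rfl⟩ := hi
        exact ⟨_, hw, chart_apply f (𝒰.f i) (hjj i) w⟩
    rw [himg]
    refine isOpen_iUnion fun i => ?_
    exact (IsOpenMap.id.prodMap (𝒰.f i).isOpenEmbedding.isOpenMap) _
      (phi_isOpenMap hA _ (hV.preimage (chart (A := A) f (𝒰.f i) (hjj i)).continuous))
  · intro z z' h
    obtain ⟨y, hy⟩ := 𝒰.covers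
      ((pullback.snd (Spec.map (CommRingCat.ofHom (algebraMap k A))) f) z)
    obtain ⟨w, hw⟩ := hcov z _ y hy
    have hsnd : (pullback.snd (Spec.map (CommRingCat.ofHom (algebraMap k A))) f) z =
        (pullback.snd (Spec.map (CommRingCat.ofHom (algebraMap k A))) f) z' :=
      congrArg Prod.snd h
    obtain ⟨w', hw'⟩ := hcov z' _ y (hy.trans hsnd)
    have h1 := chart_apply f (𝒰.f _) (hjj _) w
    have h2 := chart_apply f (𝒰.f _) (hjj _) w'
    rw [hw] at h1
    rw [hw'] at h2
    have h3 : Prod.map id (𝒰.f _) (phi (k := k) (A := A) w) =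
        Prod.map id (𝒰.f _) (phi (k := k) (A := A) w') := h1.symm.trans (h.trans h2)
    have h4 : phi (k := k) (A := A) w = phi (k := k) (A := A) w' := by
      have h5 := congrArg Prod.fst h3
      have h6 := congrArg Prod.snd h3
      exact Prod.ext h5 ((𝒰.f _).isOpenEmbedding.injective h6)
    rw [← hw, ← hw', phi_injective hA h4]
  · rintro ⟨a, x⟩
    obtain ⟨z, hz1, hz2⟩ := Scheme.Pullback.exists_preimage_pullback
      (f := Spec.map (CommRingCat.ofHom (algebraMap k A))) (g := f) a x (Subsingleton.elim _ _)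
    exact ⟨z, Prod.ext hz1 hz2⟩

end Groth.Agent.H8.ProfAlg
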